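import Groth.Agent.CurveDeg.Proj
import Groth.Agent.CurveDeg.Tensor

/-! The projection formula `f_* M ⊗ E ≅ f_* (M ⊗ f^* E)` for finite locally free `E`, naturally in `M`. -/

set_option autoImplicit false
set_option backward.isDefEq.respectTransparency false
set_option backward.isDefEq.respectTransparency.types false

noncomputable section

universe u

open CategoryTheory Limits AlgebraicGeometry Opposite TopologicalSpace
open Groth.Agent.QCohBase Groth.Agent.GenLocus Groth.Agent.FrameHom Groth.Agent.CurveDeg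
open scoped TensorProduct

namespace Groth.Agent.ProjFormula

variable {X Y : Scheme.{u}} (g : X ⟶ Y) (E : Y.Modules) (M : X.Modules)

/-- the pullback of `E` -/
abbrev pE : X.Modules := (Scheme.Modules.pullback g).obj E

/-- `a ⊗ e ↦ a ⊗ g^* e` on sections. -/
def sec (V : Y.Opens) :
    Γ((Scheme.Modules.pushforward g).obj M, V) ⊗[Γ(Y, V)] Γ(E, V) →+
      Γ(CohB1.tensorMod M (pE g E), g ⁻¹ᵁ V) :=
  TensorProduct.liftAddHom
    { toFun := fun a => (tmulBi M (pE g E) (g ⁻¹ᵁ V) (show Γ(M, g ⁻¹ᵁ V) from a)).comp (pullSec g E V)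
      map_zero' := by
        refine AddMonoidHom.ext fun b => ?_
        exact DFunLike.congr_fun (map_zero (tmulBi M (pE g E) (g ⁻¹ᵁ V))) _
      map_add' := fun a a' => by
        refine AddMonoidHom.ext fun b => ?_
        exact DFunLike.congr_fun (map_add (tmulBi M (pE g E) (g ⁻¹ᵁ V)) _ _) _ }
    (fun r a b => by
      show SecTwist.tmul M (pE g E) _ (g.app V r • (show Γ(M, g ⁻¹ᵁ V) from a)) (pullSec g E V b) =
        SecTwist.tmul M (pE g E) _ (show Γ(M, g ⁻¹ᵁ V) from a) (pullSec g E V (r • b))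
      rw [pullSec_smul, tmul_smul_left, tmul_smul_right])

lemma sec_tmul (V : Y.Opens) (a : Γ((Scheme.Modules.pushforward g).obj M, V)) (b : Γ(E, V)) :
    sec g E M V (a ⊗ₜ b) =
      SecTwist.tmul M (pE g E) (g ⁻¹ᵁ V) (show Γ(M, g ⁻¹ᵁ V) from a) (pullSec g E V b) := rfl

lemma sec_smul (V : Y.Opens) (r : Γ(Y, V))
    (x : Γ((Scheme.Modules.pushforward g).obj M, V) ⊗[Γ(Y, V)] Γ(E, V)) :
    sec g E M V (r • x) = g.app V r • sec g E M V x := by
  induction x using TensorProduct.induction_on with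
  | zero => simp
  | add x y hx hy => rw [smul_add, map_add, map_add, hx, hy, smul_add]
  | tmul a b =>
    rw [TensorProduct.smul_tmul', sec_tmul, sec_tmul]
    exact tmul_smul_left M (pE g E) (g.app V r) (show Γ(M, g ⁻¹ᵁ V) from a) _

lemma sec_res {V W : Y.Opens} (h : W ≤ V)
    (a : Γ((Scheme.Modules.pushforward g).obj M, V)) (b : Γ(E, V)) :
    mres (CohB1.tensorMod M (pE g E)) (g.preimage_mono h) (sec g E M V (a ⊗ₜ b)) =
      sec g E M W (mres _ h a ⊗ₜ mres E h b) := by
  rw [sec_tmul, sec_tmul]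
  refine (SecTwist.map_tmul M (pE g E) (homOfLE (g.preimage_mono h)) _ _).trans ?_
  exact congrArg (SecTwist.tmul M (pE g E) (g ⁻¹ᵁ W) _) (pullSec_mres g E h b)

/-- The presheaf projection map. -/
def pre : CohB1.tensorPre ((Scheme.Modules.pushforward g).obj M) E ⟶
    (TensorMod.incl Y).obj ((Scheme.Modules.pushforward g).obj (CohB1.tensorMod M (pE g E))) :=
  PresheafOfModules.homMk
    { app := fun V => AddCommGrpCat.ofHom (sec g E M V.unop)
      naturality := fun V W i => by
        ext x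
        induction x using TensorProduct.induction_on with
        | zero => exact (map_zero _).trans (map_zero _).symm
        | add x y hx hy =>
          exact (map_add _ _ _).trans ((congrArg₂ (· + ·) hx hy).trans (map_add _ _ _).symm)
        | tmul a b => exact (sec_res g E M i.unop.le a b).symm }
    (fun V r x => sec_smul g E M V.unop r x)

/-- The projection map. -/
def map : CohB1.tensorMod ((Scheme.Modules.pushforward g).obj M) E ⟶
    (Scheme.Modules.pushforward g).obj (CohB1.tensorMod M (pE g E)) :=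
  ((TensorMod.shAdj Y).homEquiv _ _).symm (pre g E M)

lemma map_tmul (V : Y.Opens) (a : Γ((Scheme.Modules.pushforward g).obj M, V)) (b : Γ(E, V)) :
    (map g E M).app V (SecTwist.tmul _ E V a b) =
      (SecTwist.tmul M (pE g E) (g ⁻¹ᵁ V) (show Γ(M, g ⁻¹ᵁ V) from a) (pullSec g E V b) :
        Γ(CohB1.tensorMod M (pE g E), g ⁻¹ᵁ V)) := by
  have h2 := Adjunction.homEquiv_unit (TensorMod.shAdj Y) _ _
    (((TensorMod.shAdj Y).homEquiv _ _).symm (pre g E M))
  rw [Equiv.apply_symm_apply] at h2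
  have e2 := congr(($h2).app (op V) (a ⊗ₜ[Γ(Y, V)] b))
  exact e2.symm

lemma isBasis_frames (hE : FlatMod.IsFinLocFree E) :
    Opens.IsBasis {U : Y.Opens | ∃ (n : ℕ) (e : Fin n → Γ(E, U)), IsBasisOn E e} :=
  Opens.isBasis_iff_nbhd.2 fun {W x} hx => by
    obtain ⟨U, n, hxU, ⟨t⟩⟩ := hE x
    obtain ⟨e, he⟩ := exists_isBasisOn_of_triv t
    exact ⟨U ⊓ W, ⟨n, _, he.res inf_le_left⟩, ⟨hxU, hx⟩, inf_le_right⟩

theorem isIso_map (hE : FlatMod.IsFinLocFree E) : IsIso (map g E M) := by
  refine isIso_of_bijective_basis _ (isBasis_frames E hE) fun U ⟨n, e, he⟩ V hV => ?_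
  let P := (Scheme.Modules.pushforward g).obj M
  rw [← Function.Bijective.of_comp_iff ((map g E M).app V) (bijective_tcomb P he V hV)]
  have hb := bijective_tcomb M (ClPush.isBasisOn_pullSec g he) (g ⁻¹ᵁ V) (g.preimage_mono hV)
  have key : ∀ a, (map g E M).app V (tcomb P E e V hV a) =
      tcomb M (pE g E) (fun l => pullSec g E U (e l)) (g ⁻¹ᵁ V) (g.preimage_mono hV) a := by
    intro a
    show (map g E M).app V (∑ l, SecTwist.tmul P E V (a l) (mres E hV (e l))) = _
    rw [map_sum]
    refine Finset.sum_congr rfl fun l _ => ?_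
    refine (map_tmul g E M V (a l) _).trans ?_
    rw [← pullSec_mres g E hV]
  exact ⟨fun a b h => hb.1 (((key a).symm.trans h).trans (key b)), fun c => by
    obtain ⟨a, ha⟩ := hb.2 c
    exact ⟨a, (key a).trans ha⟩⟩

theorem natural (hE : FlatMod.IsFinLocFree E) {M' : X.Modules} (φ : M ⟶ M') :
    twist ((Scheme.Modules.pushforward g).map φ) E ≫ map g E M' =
      map g E M ≫ (Scheme.Modules.pushforward g).map (twist φ (pE g E)) := by
  refine Scheme.Modules.hom_ext _ _ fun W => ?_
  ext s
  choose U hU hxU hUW using fun y : W => Opens.isBasis_iff_nbhd.1 (isBasis_frames E hE) y.2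
  refine eq_of_iSup_le _ U hUW (fun y hy => Opens.mem_iSup.2 ⟨⟨y, hy⟩, hxU ⟨y, hy⟩⟩) _ _ fun y => ?_
  obtain ⟨n, e, he⟩ := hU y
  obtain ⟨a, ha⟩ := (bijective_tcomb ((Scheme.Modules.pushforward g).obj M) he (U y) le_rfl).2
    (mres _ (hUW y) s)
  rw [app_nat, app_nat, ← ha, tcomb, map_sum, map_sum]
  refine Finset.sum_congr rfl fun l _ => ?_
  rw [Scheme.Modules.Hom.comp_app, Scheme.Modules.Hom.comp_app, ConcreteCategory.comp_apply,
    ConcreteCategory.comp_apply, twist_app_tmul, map_tmul]
  refine Eq.trans ?_ (congrArg _ (map_tmul g E M (U y) (a l) _)).symm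
  exact (twist_app_tmul φ (pE g E) (g ⁻¹ᵁ U y) _ _).symm

/-- The projection formula, natural in the module. -/
def natIso (hE : FlatMod.IsFinLocFree E) :
    Scheme.Modules.pushforward g ⋙ DCoh.tensorRightMod E ≅
      DCoh.tensorRightMod (pE g E) ⋙ Scheme.Modules.pushforward g :=
  NatIso.ofComponents (fun M => @asIso _ _ _ _ (map g E M) (isIso_map g E M hE)) fun {M M'} φ => by
    show (DCoh.tensorRightMod E).map ((Scheme.Modules.pushforward g).map φ) ≫ map g E M' =
      map g E M ≫ (Scheme.Modules.pushforward g).map ((DCoh.tensorRightMod (pE g E)).map φ)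
    rw [KoszTw.tensorRightMod_map, KoszTw.tensorRightMod_map]
    exact natural g E M hE φ

end Groth.Agent.ProjFormula
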